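/-
Coset enumeration data, found by a computer search; checked by `decide +kernel`.
-/
import Cfsg.Agent.Lib.Spor.TC.CheckWide

namespace CfsgLib.Spor.Mults.McLaughlin.Enum2

open CfsgLib.Spor.TC

def edgeTbl : Tbl :=
  .bin (.tip 0xb0000010000a0000b0000090000a1000080000900000700008100006000070000050000610000400005000003000041000020000300000100002100000000010) (.none)

def nodeTbl : Tbl :=
  .bin (.tip 0xa0000091000080000071000060000051000040000031000020000011000000000000) (.none)

def rowTbl : Tbl :=
  .bin (.tip 0xb0000a00009000080000700006000050000400003000020000100000) (.none)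

def rels : List (List ℕ) := [[0, 1, 0, 1, 0, 1, 0, 1, 0, 1, 0, 1]]

def subs : List (List ℕ) := []

noncomputable def cert : Cert :=
  ⟨2, rels, subs, edgeTbl.get 44, nodeTbl.get 24, rowTbl.get 20⟩

end CfsgLib.Spor.Mults.McLaughlin.Enum2
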